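import Groth.Agent.S3572
import Groth.Agent.Lib.CMReg18.HilbPn
import Mathlib.AlgebraicGeometry.Morphisms.ClosedImmersion
import Mathlib.AlgebraicGeometry.ProjectiveSpectrum.Proper

/-! # The morphism of `Proj` to projective space given by forms of degree `n`

If some of the forms `a i` of degree `n` cover `Proj 𝒜` and for those every form of degree a multiple of `n` becomes a
polynomial in the `a j` after multiplication by a power of `a i`, the morphism is a closed immersion.
-/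

set_option autoImplicit false
set_option linter.style.haveILetI false
set_option backward.isDefEq.respectTransparency.types false

universe u

open CategoryTheory Limits AlgebraicGeometry Opposite TopologicalSpace HomogeneousLocalization

namespace Groth.Agent.Emb26

open Groth.Agent.M1 Groth.Agent.Twist

variable {R A : Type u} [CommRing R] [CommRing A] [Algebra R A] (𝒜 : ℕ → Submodule R A) [GradedAlgebra 𝒜]

theorem eval₂_mul_pow {S : Type u} [CommRing S] {N : ℕ} {P : MvPolynomial (Fin N) R} {m : ℕ}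
    (hP : P.IsHomogeneous m) (φ : R →+* S) (g : Fin N → S) (u : S) :
    MvPolynomial.eval₂ φ (fun j => g j * u) P = MvPolynomial.eval₂ φ g P * u ^ m := by
  rw [MvPolynomial.eval₂_eq', MvPolynomial.eval₂_eq', Finset.sum_mul]
  refine Finset.sum_congr rfl fun e he => ?_
  rw [mul_assoc]
  congr 1
  simp only [mul_pow, Finset.prod_mul_distrib, Finset.prod_pow_eq_pow_sum]
  congr 2
  have := hP (MvPolynomial.mem_support_iff.1 he)
  simpa [Finsupp.weight_apply, Finsupp.sum_fintype] using this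

theorem aeval_mem_of_isHomogeneous {N n m : ℕ} {a : Fin N → A} (ha : ∀ i, a i ∈ 𝒜 n) {P : MvPolynomial (Fin N) R}
    (hP : P.IsHomogeneous m) : MvPolynomial.aeval a P ∈ 𝒜 (m * n) := by
  rw [MvPolynomial.aeval_def, MvPolynomial.eval₂_eq']
  refine sum_mem fun e he => ?_
  rw [← Algebra.smul_def]
  refine Submodule.smul_mem _ _ ?_
  have h := hP (MvPolynomial.mem_support_iff.1 he)
  have hsum : ∑ i, e i = m := by simpa [Finsupp.weight_apply, Finsupp.sum_fintype] using h
  have : ∏ i, a i ^ e i ∈ 𝒜 (∑ i, e i • n) :=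
    SetLike.prod_mem_graded _ _ _ fun i _ => SetLike.pow_mem_graded _ (ha i)
  simpa [← hsum, Finset.sum_mul] using this

/-- A form of degree `M n` in the algebra generated by forms of degree `n` is a homogeneous polynomial in them. -/
theorem exists_isHomogeneous_of_mem_adjoin {N n M : ℕ} (hn : 0 < n) {a : Fin N → A} (ha : ∀ i, a i ∈ 𝒜 n) {c : A}
    (hc : c ∈ 𝒜 (M * n)) (h : c ∈ Algebra.adjoin R (Set.range a)) :
    ∃ P : MvPolynomial (Fin N) R, P.IsHomogeneous M ∧ MvPolynomial.aeval a P = c := by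
  classical
  obtain ⟨P, rfl⟩ := (Algebra.adjoin_range_eq_range_aeval R a).le h
  change MvPolynomial.aeval a P ∈ _ at hc
  refine ⟨MvPolynomial.homogeneousComponent M P, MvPolynomial.homogeneousComponent_isHomogeneous M P, ?_⟩
  have h1 : (MvPolynomial.aeval a P : A) = GradedAlgebra.proj 𝒜 (M * n) (MvPolynomial.aeval a P) := by
    rw [GradedAlgebra.proj_apply, DirectSum.decompose_of_mem_same 𝒜 hc]
  show MvPolynomial.aeval a (MvPolynomial.homogeneousComponent M P) = MvPolynomial.aeval a P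
  rw [h1]
  conv_rhs => rw [← MvPolynomial.sum_homogeneousComponent P, map_sum, map_sum]
  have hm : ∀ m, MvPolynomial.aeval a (MvPolynomial.homogeneousComponent m P) ∈ 𝒜 (m * n) := fun m =>
    aeval_mem_of_isHomogeneous 𝒜 ha (MvPolynomial.homogeneousComponent_isHomogeneous m P)
  rw [Finset.sum_eq_single M]
  · rw [GradedAlgebra.proj_apply, DirectSum.decompose_of_mem_same 𝒜 (hm M)]
  · intro m _ hmM
    rw [GradedAlgebra.proj_apply, DirectSum.decompose_of_mem_ne 𝒜 (hm m)]
    exact fun h => hmM (Nat.eq_of_mul_eq_mul_right hn h)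
  · intro hM
    rw [MvPolynomial.homogeneousComponent_eq_zero M P (by simpa using hM), map_zero, map_zero]

variable {n N : ℕ} (hn : 0 < n) (a : Fin (N + 1) → A) (ha : ∀ i, a i ∈ 𝒜 n)

include ha in
theorem isGen_globalOf (i : Fin (N + 1)) :
    IsGen (_root_.Twist.twist 𝒜 (n : ℤ)) (Proj.basicOpen 𝒜 (a i))
      (mres _ (le_top : Proj.basicOpen 𝒜 (a i) ≤ ⊤) (gsec 𝒜 ⟨a i, ha i⟩)) := fun V hV => by
  simp only [mres_mres]
  exact bijective_smul_gsec 𝒜 ⟨a i, ha i⟩ V hV

variable (G : Set (Fin (N + 1))) (hcov : ∀ x : ProjectiveSpectrum 𝒜, ∃ i ∈ G, a i ∉ x.asHomogeneousIdeal)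

include ha hcov in
theorem isInvertible_twist : PicF.IsInvertible (_root_.Twist.twist 𝒜 (n : ℤ)) := fun x => by
  obtain ⟨i, -, hi⟩ := hcov x
  exact ⟨_, hi, Twist.nonempty_restrict_iso _ _ _ (isGen_globalOf 𝒜 a ha i)⟩

variable (hgood : ∀ i ∈ G, ∀ (k : ℕ) (z : A), z ∈ 𝒜 (k * n) → ∃ L : ℕ, a i ^ L * z ∈ Algebra.adjoin R (Set.range a))

include hn ha hcov hgood in
/-- The closed immersion. -/
theorem exists_closedImmersion [Algebra.FiniteType R A] (h0 : Function.Surjective (algebraMap R (𝒜 0))) :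
    ∃ (r : Proj 𝒜 ⟶ CohB1.ProjSpace N R), IsClosedImmersion r ∧
      r ≫ CohB1.ProjSpace.toSpec N R = ProjUP.toBase 𝒜 ∧
      Nonempty ((Scheme.Modules.pullback r).obj (_root_.Twist.twistProjSpace N R 1) ≅
        _root_.Twist.twist 𝒜 (n : ℤ)) := by
  let L := _root_.Twist.twist 𝒜 (n : ℤ)
  let s : Fin (N + 1) → Γ(L, ⊤) := fun i => gsec 𝒜 ⟨a i, ha i⟩
  have hs : _root_.ProjUP.GeneratedBy L s := fun x => by
    obtain ⟨i, -, hi⟩ := hcov x
    refine top_le_iff.1 fun z _ => ?_
    obtain ⟨c, rfl⟩ := ((isGen_globalOf 𝒜 a ha i).stalk (x := x) hi).2 z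
    refine Submodule.smul_mem _ c (Submodule.subset_span ⟨i, ?_⟩)
    exact (germ_mres L (le_top : Proj.basicOpen 𝒜 (a i) ≤ ⊤) hi (s i)).symm
  let B := CohB1.polyGrading N R
  have hX : ∀ i : Fin (N + 1), (MvPolynomial.X i : MvPolynomial (Fin (N + 1)) R) ∈ B 1 := fun i =>
    MvPolynomial.isHomogeneous_X R i
  obtain ⟨r, hr, τ, hτ⟩ : ∃ (r : Proj 𝒜 ⟶ Proj B) (_ : r ≫ ProjUP.toBase B = ProjUP.toBase 𝒜)
      (τ : (Scheme.Modules.pullback r).obj (_root_.Twist.twist B 1) ≅ L),
      ∀ i, τ.hom.app ⊤ (ProjUP.sec B r (hX i)) = s i :=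
    S3572.result N (ProjUP.toBase 𝒜) L (isInvertible_twist 𝒜 a ha G hcov) s hs
  refine ⟨r, ?_, hr, ⟨τ⟩⟩
  let W : Fin (N + 1) → (Proj 𝒜).Opens := fun i => r ⁻¹ᵁ Proj.basicOpen B (MvPolynomial.X i)
  have hrel : ∀ (i j : Fin (N + 1)) (V : (Proj 𝒜).Opens) (hV : V ≤ W j),
      mres L (le_top : V ≤ ⊤) (s i) = ProjUP.ev B (hX j) r V hV (MvPolynomial.X i) • mres L (le_top : V ≤ ⊤) (s j) :=
    fun i j V hV => by
    have h := congrArg (τ.hom.app V) (ProjUP.sec_eq_ev_smul B r (hX j) (hX i) V hV)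
    rw [Scheme.Modules.Hom.app_smul, app_mres, app_mres] at h
    rw [← hτ i, ← hτ j]
    exact h
  have hgen : ∀ j, IsGen L (W j) (mres L (le_top : W j ≤ ⊤) (s j)) := fun j V hV => by
    have hb : Function.Bijective (τ.hom.app V) := (ConcreteCategory.isIso_iff_bijective _).1 inferInstance
    have key : ∀ c : Γ(Proj 𝒜, V), c • mres L hV (mres L (le_top : W j ≤ ⊤) (s j)) =
        τ.hom.app V (c • mres _ hV (mres _ (le_top : W j ≤ ⊤) (ProjUP.sec B r (hX j)))) := fun c => by
      rw [Scheme.Modules.Hom.app_smul, app_mres, app_mres, ← hτ j]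
    simp only [key]
    exact hb.comp (ProjUP.isGen_sec B r (hX j) V hV)
  have hval : ∀ (i j : Fin (N + 1)) (V : (Proj 𝒜).Opens) (hV : V ≤ W j) (x : ProjectiveSpectrum 𝒜) (hx : x ∈ V),
      Localization.mk (a i) (⟨1, Twist.one_notMem_prime 𝒜 x⟩ : x.asHomogeneousIdeal.toIdeal.primeCompl) =
        valO (ProjUP.ev B (hX j) r V hV (MvPolynomial.X i)) x hx * Localization.mk (a j) ⟨1, Twist.one_notMem_prime 𝒜 x⟩ :=
    fun i j V hV x hx => by
    have h := congrArg (fun t => Twist.val (n := (n : ℤ)) t x hx) (hrel i j V hV)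
    exact h.trans (Twist.val_smul _ _ x hx)
  have hWle : ∀ j, W j ≤ Proj.basicOpen 𝒜 (a j) := fun j (x : ProjectiveSpectrum 𝒜) hx hmem => by
    obtain ⟨i, -, hi⟩ := hcov x
    have h := hval i j (W j) le_rfl x hx
    generalize valO (ProjUP.ev B (hX j) r (W j) le_rfl (MvPolynomial.X i)) x hx = c at h
    induction c using Localization.induction_on with
    | _ p =>
      obtain ⟨p, q, hq⟩ := p
      rw [Localization.mk_mul] at h
      obtain ⟨w, hw, he⟩ := (Twist.mk_eq_iff 𝒜 (Twist.one_notMem_prime 𝒜 x)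
        (fun hh => hq (by simpa using hh))).1 h
      have : w * ((q * 1) * a i) ∈ x.asHomogeneousIdeal.toIdeal := by
        rw [he]
        exact Ideal.mul_mem_left _ _ (Ideal.mul_mem_left _ _ (Ideal.mul_mem_left _ _ hmem))
      rw [mul_one] at this
      exact (x.isPrime.mem_or_mem this).elim hw fun h2 => (x.isPrime.mem_or_mem h2).elim hq hi
  have hWge : ∀ i, Proj.basicOpen 𝒜 (a i) ≤ W i := fun i x hx => by
    obtain ⟨j, hj⟩ := Opens.mem_iSup.1 (show r x ∈ (⨆ j, Proj.basicOpen B (MvPolynomial.X j)) by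
      rw [ProjSpace.iSup_basicOpen]; trivial)
    let V := Proj.basicOpen 𝒜 (a i) ⊓ W j
    have hV : V ≤ W j := inf_le_right
    obtain ⟨d, hd⟩ := (isGen_globalOf 𝒜 a ha i V inf_le_left).2 (mres L (le_top : V ≤ ⊤) (s j))
    have hu : IsUnit (ProjUP.ev B (hX j) r V hV (MvPolynomial.X i)) := by
      refine IsUnit.of_mul_eq_one d ?_
      refine ((hgen j) V hV).1 ?_
      show _ • mres L hV (mres L le_top (s j)) = (1 : Γ(Proj 𝒜, V)) • mres L hV (mres L le_top (s j))
      simp only [mres_mres] at hd ⊢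
      rw [one_smul, mul_comm, mul_smul, ← hrel i j V hV]
      exact hd
    have hb := ProjUP.basicOpen_ev B (hX j) r V hV (hX i)
    rw [Scheme.basicOpen_of_isUnit _ hu] at hb
    exact (hb.le (⟨hx, hj⟩ : x ∈ V)).2
  have hW : ∀ i, W i = Proj.basicOpen 𝒜 (a i) := fun i => le_antisymm (hWle i) (hWge i)
  -- the values of pulled back polynomials
  have hev : ∀ (i : Fin (N + 1)) (x : ProjectiveSpectrum 𝒜) (hx : x ∈ W i) (M : ℕ)
      (P : MvPolynomial (Fin (N + 1)) R), P.IsHomogeneous M → ∀ hnm : a i ^ M ∉ x.asHomogeneousIdeal,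
      valO (ProjUP.ev B (hX i) r (W i) le_rfl P) x hx = Localization.mk (MvPolynomial.aeval a P) ⟨a i ^ M, hnm⟩ := by
    intro i x hx M P hP hnm
    have hai : a i ∉ x.asHomogeneousIdeal := hWle i hx
    let φ : MvPolynomial (Fin (N + 1)) R →+* _root_.Twist.Loc 𝒜 x :=
      { toFun := fun Q => valO (ProjUP.ev B (hX i) r (W i) le_rfl Q) x hx
        map_one' := by rw [map_one]; exact Twist.valO_one 𝒜 x hx
        map_mul' := fun Q Q' => by rw [map_mul]; exact Twist.valO_mul 𝒜 _ _ x hx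
        map_zero' := by rw [map_zero]; exact HomogeneousLocalization.val_zero
        map_add' := fun Q Q' => by rw [map_add]; exact HomogeneousLocalization.val_add _ _ }
    have hφ : ∀ Q, φ Q = valO (ProjUP.ev B (hX i) r (W i) le_rfl Q) x hx := fun Q => rfl
    let ψ : R →+* _root_.Twist.Loc 𝒜 x := (algebraMap A _).comp (algebraMap R A)
    have key : φ = MvPolynomial.eval₂Hom ψ (fun j => algebraMap A _ (a j) * Localization.mk 1 ⟨a i, hai⟩) := by
      refine MvPolynomial.ringHom_ext (fun c => ?_) fun j => ?_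
      · rw [MvPolynomial.eval₂Hom_C, hφ]
        have h := ProjUP.ev_algebraMap B (hX i) r (W i) le_rfl c
        rw [MvPolynomial.algebraMap_eq] at h
        rw [h, show r ≫ ProjUP.toBase B = ProjUP.toBase 𝒜 from hr]
        refine (Twist.valO_map 𝒜 (le_top : W i ≤ ⊤) _ x hx).trans ?_
        have e0 : (ProjUP.toBase 𝒜).appTop ((Scheme.ΓSpecIso (CommRingCat.of R)).inv c) =
            (Proj.toSpecZero 𝒜).appTop ((Scheme.ΓSpecIso _).inv (algebraMap R (𝒜 0) c)) :=
          congrArg (Proj.toSpecZero 𝒜).appTop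
            (ConcreteCategory.congr_hom (Scheme.ΓSpecIso_inv_naturality (CommRingCat.ofHom (algebraMap R (𝒜 0)))).symm c)
        rw [e0, Twist.valO_toSpecZero 𝒜 _ x (Twist.one_notMem_prime 𝒜 x)]
        exact Localization.mk_one_eq_algebraMap _
      · rw [MvPolynomial.eval₂Hom_X', hφ]
        have h := hval j i (W i) le_rfl x hx
        have hinv : Localization.mk (a i) (⟨1, Twist.one_notMem_prime 𝒜 x⟩ : x.asHomogeneousIdeal.toIdeal.primeCompl) *
            Localization.mk 1 ⟨a i, hai⟩ = 1 := Twist.mk_mul_mk_eq_one 𝒜 _ _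
        rw [← Localization.mk_one_eq_algebraMap]
        refine Eq.trans ?_ (congrArg (· * Localization.mk 1 ⟨a i, hai⟩) h).symm
        rw [mul_assoc, hinv, mul_one]
    rw [← hφ, key, MvPolynomial.coe_eval₂Hom, eval₂_mul_pow hP]
    rw [show MvPolynomial.eval₂ ψ (fun j => algebraMap A _ (a j)) P = algebraMap A _ (MvPolynomial.aeval a P) from
      (MvPolynomial.eval₂_comp_left (algebraMap A (_root_.Twist.Loc 𝒜 x)) (algebraMap R A) a P).symm,
      ← Localization.mk_one_eq_algebraMap, Localization.mk_pow, one_pow, Localization.mk_mul, mul_one]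
    congr 1
    exact Subtype.ext (one_mul _)
  -- good charts
  have hchart : ∀ i ∈ G, IsClosedImmersion (r ∣_ Proj.basicOpen B (MvPolynomial.X i)) := by
    intro i hi
    haveI : IsAffine (Proj.basicOpen B (MvPolynomial.X i)) := Proj.isAffineOpen_basicOpen B _ (hX i) Nat.one_pos
    haveI : IsAffine (W i) := by rw [hW i]; exact Proj.isAffineOpen_basicOpen 𝒜 _ (ha i) hn
    refine IsClosedImmersion.of_surjective_of_isAffine _ fun t => ?_
    obtain ⟨t', rfl⟩ := ((ConcreteCategory.isIso_iff_bijective (W i).topIso.inv).1 inferInstance).2 t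
    obtain ⟨z, hz⟩ := ((ConcreteCategory.isIso_iff_bijective
      (Proj.basicOpenIsoAway 𝒜 (a i) (ha i) hn).hom).1 inferInstance).2
      (ores (hWge i) t')
    rw [Proj.basicOpenIsoAway_hom] at hz
    obtain ⟨k, c, hc, rfl⟩ := Away.mk_surjective 𝒜 (ha i) z
    obtain ⟨l, hl⟩ := hgood i hi k c (by simpa using hc)
    have hdeg : a i ^ l * c ∈ 𝒜 ((l + k) * n) := by
      simpa [add_mul] using SetLike.mul_mem_graded (SetLike.pow_mem_graded l (ha i)) hc
    obtain ⟨P, hP, hPc⟩ := exists_isHomogeneous_of_mem_adjoin 𝒜 hn ha hdeg hl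
    have heq : ProjUP.ev B (hX i) r (W i) le_rfl P = t' := Twist.sectionO_ext fun x hx => by
      have hai : a i ∉ x.asHomogeneousIdeal := hWle i hx
      rw [hev i x hx _ P hP (Twist.pow_notMem 𝒜 hai _), hPc]
      have h := congrArg (fun q => valO q x (hWle i hx)) hz
      refine Eq.trans ?_ h
      refine Eq.trans ?_ (Twist.valO_awayToSection 𝒜 (ha i) hc x (hWle i hx) (Twist.pow_notMem 𝒜 hai k)).symm
      refine (Twist.mk_eq_iff 𝒜 _ _).2 ⟨1, Twist.one_notMem_prime 𝒜 x, ?_⟩
      rw [pow_add]; ring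
    refine ⟨(Proj.basicOpen B (MvPolynomial.X i)).topIso.inv
      (Proj.awayToSection B _ (EGA2.dehom B (hX i) P)), ?_⟩
    rw [← heq, ProjUP.ev_apply, ← Scheme.Hom.resLE_eq_morphismRestrict, Scheme.Hom.appTop, Scheme.Hom.resLE_app_top]
    simp only [CommRingCat.hom_comp, RingHom.comp_apply]
    congr 2
  let T : (Proj B).Opens := ⨆ i : G, Proj.basicOpen B (MvPolynomial.X i.1)
  have hT : r ⁻¹ᵁ T = ⊤ := top_le_iff.1 fun x _ => by
    obtain ⟨i, hi, hxi⟩ := hcov x
    exact Opens.mem_iSup.2 ⟨⟨i, hi⟩, hWge i hxi⟩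
  haveI : IsPreimmersion r := by
    haveI : IsClosedImmersion (r ∣_ T) := by
      refine IsZariskiLocalAtTarget.of_forall_exists_morphismRestrict (P := @IsClosedImmersion) fun y => ?_
      obtain ⟨i, hyi⟩ := Opens.mem_iSup.1 y.2
      refine ⟨T.ι ⁻¹ᵁ Proj.basicOpen B (MvPolynomial.X i.1), hyi, ?_⟩
      rw [MorphismProperty.arrow_mk_iso_iff @IsClosedImmersion (morphismRestrictRestrict r T _)]
      rw [show T.ι ''ᵁ (T.ι ⁻¹ᵁ Proj.basicOpen B (MvPolynomial.X i.1)) = Proj.basicOpen B (MvPolynomial.X i.1) by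
        rw [Scheme.Hom.image_preimage_eq_opensRange_inf, Scheme.Opens.opensRange_ι,
          inf_eq_right.2 (le_iSup (fun i : G => Proj.basicOpen B (MvPolynomial.X i.1)) i)]]
      exact hchart i.1 i.2
    haveI : IsIso (r ⁻¹ᵁ T).ι := by
      rw [hT]; exact inferInstanceAs (IsIso (Scheme.topIso _).hom)
    have : r = inv (r ⁻¹ᵁ T).ι ≫ (r ∣_ T) ≫ T.ι := by
      rw [morphismRestrict_ι, IsIso.inv_hom_id_assoc]
    rw [this]
    infer_instance
  haveI : IsScalarTower R (𝒜 0) A := ⟨fun r x y => smul_assoc r (x : A) y⟩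
  haveI : Algebra.FiniteType (𝒜 0) A := Algebra.FiniteType.of_restrictScalars_finiteType R _ _
  haveI : IsClosedImmersion (Spec.map (CommRingCat.ofHom (algebraMap R (𝒜 0)))) :=
    IsClosedImmersion.spec_of_surjective _ h0
  haveI : IsProper (r ≫ ProjUP.toBase B) := by
    rw [hr]; show IsProper (Proj.toSpecZero 𝒜 ≫ _); infer_instance
  haveI : IsSeparated (ProjUP.toBase B) := by
    show IsSeparated (Proj.toSpecZero B ≫ _); infer_instance
  haveI : IsProper r := IsProper.of_comp r (ProjUP.toBase B)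
  exact IsClosedImmersion.of_isPreimmersion r r.isClosedMap.isClosed_range

include hn ha hcov hgood in
/-- The same over `Spec R`. -/
theorem exists_closedImmersion_over [Algebra.FiniteType R A] (h0 : Function.Surjective (algebraMap R (𝒜 0))) :
    ∃ (i : Proj 𝒜 ⟶ CohB1.ProjSpaceOver N (Spec (CommRingCat.of R))), IsClosedImmersion i ∧
      i ≫ pullback.snd (CohB1.ProjSpace.toSpec N (ULift.{u} ℤ)) (specULiftZIsTerminal.from (Spec (CommRingCat.of R))) =
        ProjUP.toBase 𝒜 ∧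
      Nonempty (_root_.Twist.twist 𝒜 (n : ℤ) ≅
        (Scheme.Modules.pullback i).obj (_root_.Twist.twistOver N (Spec (CommRingCat.of R)) 1)) := by
  obtain ⟨r, hr, hrb, ⟨e⟩⟩ := exists_closedImmersion 𝒜 hn a ha G hcov hgood h0
  have hsq := CMReg18.isPullback_pjMap N (𝟙 (Spec (CommRingCat.of R)))
  haveI : IsIso (CMReg18.pjMap N (𝟙 (Spec (CommRingCat.of R)))) := hsq.isIso_fst_of_isIso
  refine ⟨r ≫ CMReg18.pjMap N (𝟙 _), inferInstance, ?_, ?_⟩
  · rw [Category.assoc]
    refine Eq.trans ?_ hrb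
    congr 1
    exact hsq.w.trans (Category.comp_id _)
  · obtain ⟨e'⟩ := CMReg18.nonempty_pjMap_twistOver N (𝟙 (Spec (CommRingCat.of R))) 1
    exact ⟨(((Scheme.Modules.pullbackComp r _).app _).symm ≪≫ (Scheme.Modules.pullback r).mapIso e' ≪≫ e).symm⟩

end Groth.Agent.Emb26
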