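import Groth.Agent.Lib.Emb26.Main

/-! # Monomials in homogeneous generators -/

set_option autoImplicit false
set_option backward.isDefEq.respectTransparency.types false

universe u

open AlgebraicGeometry

namespace Groth.Agent.Emb26

variable {R A : Type u} [CommRing R] [CommRing A] [Algebra R A] (𝒜 : ℕ → Submodule R A) [GradedAlgebra 𝒜]
variable {ι : Type*} [Fintype ι] (f : ι → A) (deg : ι → ℕ) (hf : ∀ i, f i ∈ 𝒜 (deg i))

/-- A monomial. -/
def mon (e : ι → ℕ) : A := ∏ i, f i ^ e i

/-- Its degree. -/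
def wt (e : ι → ℕ) : ℕ := ∑ i, e i * deg i

theorem mon_add (e e' : ι → ℕ) : mon f (e + e') = mon f e * mon f e' := by
  simp [mon, pow_add, Finset.prod_mul_distrib]

theorem wt_add (e e' : ι → ℕ) : wt deg (e + e') = wt deg e + wt deg e' := by
  simp [wt, add_mul, Finset.sum_add_distrib]

theorem mon_single [DecidableEq ι] (i : ι) (c : ℕ) : mon f (Pi.single i c) = f i ^ c := by
  simp [mon, Pi.single_apply]

theorem wt_single [DecidableEq ι] (i : ι) (c : ℕ) : wt deg (Pi.single i c) = c * deg i := by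
  simp [wt, Pi.single_apply]

include hf in
theorem mon_mem (e : ι → ℕ) : mon f e ∈ 𝒜 (wt deg e) :=
  SetLike.prod_mem_graded _ _ _ fun i _ => by simpa using SetLike.pow_mem_graded (e i) (hf i)

variable (hgen : Algebra.adjoin R (Set.range f) = ⊤)

include hf hgen in
/-- A form of degree `m` is a combination of monomials of degree `m`. -/
theorem mem_span_mon {m : ℕ} {z : A} (hz : z ∈ 𝒜 m) :
    z ∈ Submodule.span R {a | ∃ e, wt deg e = m ∧ mon f e = a} := by
  classical
  obtain ⟨P, hP⟩ : ∃ P, MvPolynomial.aeval f P = z :=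
    (Algebra.adjoin_range_eq_range_aeval R f).le (hgen ▸ Algebra.mem_top)
  have h1 : (GradedAlgebra.proj 𝒜 m z : A) = z := by
    rw [GradedAlgebra.proj_apply, DirectSum.decompose_of_mem_same 𝒜 hz]
  rw [← h1, ← hP, MvPolynomial.aeval_def, MvPolynomial.eval₂_eq', map_sum]
  refine sum_mem fun e _ => ?_
  rw [← Algebra.smul_def, map_smul]
  refine Submodule.smul_mem _ _ ?_
  by_cases he : wt deg e = m
  · rw [GradedAlgebra.proj_apply, DirectSum.decompose_of_mem_same 𝒜 (show ∏ i, f i ^ e i ∈ 𝒜 m from he ▸ mon_mem 𝒜 f deg hf e)]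
    exact Submodule.subset_span ⟨e, he, rfl⟩
  · rw [GradedAlgebra.proj_apply, DirectSum.decompose_of_mem_ne 𝒜 (show ∏ i, f i ^ e i ∈ 𝒜 _ from mon_mem 𝒜 f deg hf e) he]
    exact zero_mem _

include hf hgen in
theorem surjective_algebraMap_zero (hdeg : ∀ i, 0 < deg i) : Function.Surjective (algebraMap R (𝒜 0)) := by
  intro z
  have h := mem_span_mon 𝒜 f deg hf hgen z.2
  have hle : ({a | ∃ e, wt deg e = 0 ∧ mon f e = a} : Set A) ⊆ {1} := by
    rintro _ ⟨e, he, rfl⟩
    have : ∀ i, e i = 0 := fun i => by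
      have := (Finset.sum_eq_zero_iff.1 he) i (Finset.mem_univ i)
      exact (Nat.mul_eq_zero.1 this).resolve_right (hdeg i).ne'
    simp [mon, this]
  obtain ⟨c, hc⟩ := Submodule.mem_span_singleton.1 (Submodule.span_mono hle h)
  exact ⟨c, Subtype.ext (by rw [← hc, Algebra.smul_def, mul_one]; rfl)⟩

include hf hgen in
theorem exists_notMem_gen (hdeg : ∀ i, 0 < deg i) (x : ProjectiveSpectrum 𝒜) : ∃ i, f i ∉ x.asHomogeneousIdeal := by
  by_contra hno
  push Not at hno
  refine x.not_irrelevant_le ((HomogeneousIdeal.irrelevant_le 𝒜).2 fun m hm z hz => ?_)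
  refine (Submodule.span_le (p := (x.asHomogeneousIdeal.toIdeal.restrictScalars R))).2 ?_
    (mem_span_mon 𝒜 f deg hf hgen hz)
  rintro _ ⟨e, he, rfl⟩
  obtain ⟨i, -, hi⟩ : ∃ i ∈ Finset.univ, e i * deg i ≠ 0 :=
    Finset.exists_ne_zero_of_sum_ne_zero (by rw [show ∑ i, e i * deg i = m from he]; omega)
  show mon f e ∈ x.asHomogeneousIdeal.toIdeal
  exact Ideal.mem_of_dvd _ (Finset.dvd_prod_of_mem _ (Finset.mem_univ i))
    (Ideal.pow_mem_of_mem _ (hno i) _ (Nat.pos_of_ne_zero fun h => hi (by simp [h])))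

open Classical in
/-- The exponents of weight `n`. -/
noncomputable def exps (n : ℕ) : Finset (ι → ℕ) :=
  (Fintype.piFinset fun _ : ι => Finset.range (n + 1)).filter fun e => wt deg e = n

theorem mem_exps (hdeg : ∀ i, 0 < deg i) {n : ℕ} {e : ι → ℕ} : e ∈ exps deg n ↔ wt deg e = n := by
  classical
  rw [exps, Finset.mem_filter, Fintype.mem_piFinset]
  refine ⟨fun h => h.2, fun h => ⟨fun i => Finset.mem_range.2 (Nat.lt_succ_of_le ?_), h⟩⟩
  rw [← h]
  exact (Nat.le_mul_of_pos_right _ (hdeg i)).trans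
    (Finset.single_le_sum (f := fun j => e j * deg j) (fun j _ => Nat.zero_le _) (Finset.mem_univ i))

include hf hgen in
/-- The embedding by the monomials of degree `n`. -/
theorem exists_closedImmersion_mon (hdeg : ∀ i, 0 < deg i) {n : ℕ} (hn : 0 < n)
    (good : (ι → ℕ) → Prop) (hgood_wt : ∀ e, good e → wt deg e = n)
    (hcov : ∀ x : ProjectiveSpectrum 𝒜, ∃ e, good e ∧ mon f e ∉ x.asHomogeneousIdeal)
    (hgood : ∀ e₀, good e₀ → ∀ (k : ℕ) (e : ι → ℕ), wt deg e = k * n →
      ∃ L, mon f e₀ ^ L * mon f e ∈ Algebra.adjoin R {a | ∃ e', wt deg e' = n ∧ mon f e' = a}) :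
    ∃ (N : ℕ) (i : Proj 𝒜 ⟶ CohB1.ProjSpaceOver N (Spec (CommRingCat.of R))), IsClosedImmersion i ∧
      CategoryTheory.CategoryStruct.comp i (CategoryTheory.Limits.pullback.snd
          (CohB1.ProjSpace.toSpec N (ULift.{u} ℤ)) (specULiftZIsTerminal.from (Spec (CommRingCat.of R)))) =
        ProjUP.toBase 𝒜 ∧
      Nonempty (_root_.Twist.twist 𝒜 (n : ℤ) ≅
        (Scheme.Modules.pullback i).obj (_root_.Twist.twistOver N (Spec (CommRingCat.of R)) 1)) := by
  classical
  let J := Option {e // e ∈ exps deg n}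
  let N := Fintype.card {e // e ∈ exps deg n}
  let E : J ≃ Fin (N + 1) := Fintype.equivFinOfCardEq (Fintype.card_option)
  let a : Fin (N + 1) → A := fun j => (E.symm j).elim 0 fun e => mon f e.1
  have ha : ∀ j, a j ∈ 𝒜 n := fun j => by
    show (E.symm j).elim 0 _ ∈ _
    cases E.symm j with
    | none => exact zero_mem _
    | some e =>
      have h := mon_mem 𝒜 f deg hf e.1
      rw [(mem_exps deg hdeg).1 e.2] at h
      exact h
  haveI : Algebra.FiniteType R A :=
    ⟨Subalgebra.fg_def.2 ⟨Set.range f, Set.finite_range f, hgen⟩⟩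
  have hrange : ∀ e, wt deg e = n → mon f e ∈ Set.range a := fun e he =>
    ⟨E (some ⟨e, (mem_exps deg hdeg).2 he⟩), by show (E.symm (E _)).elim 0 _ = _; rw [E.symm_apply_apply]; rfl⟩
  refine ⟨N, exists_closedImmersion_over 𝒜 hn a ha {j | ∃ e, good e ∧ a j = mon f e} (fun x => ?_) ?_
    (surjective_algebraMap_zero 𝒜 f deg hf hgen hdeg)⟩
  · obtain ⟨e, he, hx⟩ := hcov x
    obtain ⟨j, hj⟩ := hrange e (hgood_wt e he)
    exact ⟨j, ⟨e, he, hj⟩, by rwa [hj]⟩
  · rintro j ⟨e₀, he₀, hj⟩ k z hz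
    rw [hj]
    have hsub : Algebra.adjoin R {a | ∃ e', wt deg e' = n ∧ mon f e' = a} ≤ Algebra.adjoin R (Set.range a) :=
      Algebra.adjoin_mono (by rintro _ ⟨e', h', rfl⟩; exact hrange e' h')
    have h0 : mon f e₀ ∈ Algebra.adjoin R (Set.range a) := Algebra.subset_adjoin (hrange e₀ (hgood_wt e₀ he₀))
    refine Submodule.span_induction (p := fun z _ => ∃ L, mon f e₀ ^ L * z ∈ Algebra.adjoin R (Set.range a))
      ?_ ⟨0, by simp⟩ ?_ ?_ (mem_span_mon 𝒜 f deg hf hgen hz)
    · rintro _ ⟨e, he, rfl⟩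
      obtain ⟨L, hL⟩ := hgood e₀ he₀ k e he
      exact ⟨L, hsub hL⟩
    · rintro u v _ _ ⟨L, hL⟩ ⟨L', hL'⟩
      refine ⟨L + L', ?_⟩
      have e : mon f e₀ ^ (L + L') * (u + v) =
          mon f e₀ ^ L' * (mon f e₀ ^ L * u) + mon f e₀ ^ L * (mon f e₀ ^ L' * v) := by ring
      rw [e]
      exact add_mem (mul_mem (pow_mem h0 _) hL) (mul_mem (pow_mem h0 _) hL')
    · rintro c u _ ⟨L, hL⟩
      exact ⟨L, by rw [mul_smul_comm]; exact Subalgebra.smul_mem _ hL c⟩

theorem exists_le_sum_eq : ∀ (s : Finset ι) (q : ι → ℕ) (m : ℕ), m ≤ ∑ i ∈ s, q i →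
    ∃ q' : ι → ℕ, (∀ i, q' i ≤ q i) ∧ ∑ i ∈ s, q' i = m ∧ ∀ i ∉ s, q' i = 0 := by
  classical
  intro s
  induction s using Finset.induction with
  | empty => intro q m hm; exact ⟨0, fun i => Nat.zero_le _, by simp at hm; simp [hm], fun i _ => rfl⟩
  | insert b s hb ih =>
    intro q m hm
    rw [Finset.sum_insert hb] at hm
    obtain ⟨q', h1, h2, h3⟩ := ih q (m - min m (q b)) (by omega)
    refine ⟨Function.update q' b (min m (q b)), fun i => ?_, ?_, fun i hi => ?_⟩
    · by_cases h : i = b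
      · subst h; simp
      · simp [h, h1]
    · rw [Finset.sum_insert hb, Function.update_self, Finset.sum_congr rfl fun i hi => Function.update_of_ne
        (fun h => hb (by rw [← h]; exact hi)) _ q', h2]
      omega
    · simp only [Finset.mem_insert, not_or] at hi
      simp [hi.1, h3 i hi.2]

/-- When `s - 1 ≤ a`, a monomial of degree `k a l` is a product of monomials of degree `a l`. -/
theorem mon_mem_adjoin {a l : ℕ} (hdeg : ∀ i, 0 < deg i) (hl : ∀ i, deg i ∣ l) (hl0 : 0 < l)
    (has : Fintype.card ι - 1 ≤ a) : ∀ (k : ℕ) (e : ι → ℕ), wt deg e = k * (a * l) →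
      mon f e ∈ Algebra.adjoin R {z | ∃ e', wt deg e' = a * l ∧ mon f e' = z} := by
  intro k
  induction k with
  | zero =>
    intro e he
    rw [zero_mul] at he
    have : ∀ i, e i = 0 := fun i => by
      have := (Finset.sum_eq_zero_iff.1 he) i (Finset.mem_univ i)
      exact (Nat.mul_eq_zero.1 this).resolve_right (hdeg i).ne'
    simp [mon, this]
  | succ k ih =>
    intro e he
    choose L hL using hl
    have hLpos : ∀ i, 0 < L i := fun i => Nat.pos_of_ne_zero fun h => by
      have := hL i; rw [h, mul_zero] at this; omega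
    let q : ι → ℕ := fun i => e i / L i
    let r : ι → ℕ := fun i => e i % L i
    have hqr : ∀ i, e i * deg i = q i * l + r i * deg i := fun i => by
      have h1 := Nat.div_add_mod (e i) (L i)
      simp only [q, r]
      rw [hL i]
      conv_lhs => rw [← h1]
      ring
    have hsum : (∑ i, q i) * l + wt deg r = (k + 1) * (a * l) := by
      rw [← he, wt, wt, Finset.sum_mul, ← Finset.sum_add_distrib]
      exact Finset.sum_congr rfl fun i _ => (hqr i).symm
    have hlt : ∀ i, r i * deg i + 1 ≤ l := fun i => by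
      have h1 : r i < L i := Nat.mod_lt _ (hLpos i)
      have h2 : r i * deg i < L i * deg i := (Nat.mul_lt_mul_right (hdeg i)).2 h1
      have h3 : L i * deg i = l := by rw [mul_comm, ← hL i]
      omega
    have hbound : wt deg r + Fintype.card ι ≤ Fintype.card ι * l := by
      have := Finset.sum_le_sum (s := Finset.univ) fun i _ => hlt i
      simpa [wt, Finset.sum_add_distrib] using this
    obtain ⟨t, ht⟩ : l ∣ wt deg r :=
      (Nat.dvd_add_right (dvd_mul_left l (∑ i, q i))).1
        (by rw [hsum]; exact dvd_mul_of_dvd_right (dvd_mul_left l a) _)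
    have hta : t ≤ a := by
      rcases Nat.eq_zero_or_pos (Fintype.card ι) with h0 | h0
      · have : wt deg r = 0 := by
          rw [h0, zero_mul] at hbound; omega
        rw [this] at ht
        rcases Nat.mul_eq_zero.1 ht.symm with h | h <;> omega
      · have : l * t < l * Fintype.card ι := by rw [← ht, mul_comm l]; omega
        have := Nat.lt_of_mul_lt_mul_left this
        omega
    have hq : (∑ i, q i) + t = (k + 1) * a := by
      refine Nat.eq_of_mul_eq_mul_right hl0 ?_
      rw [add_mul, mul_comm t l, ← ht, hsum, mul_assoc]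
    obtain ⟨q', hq'le, hq'sum, -⟩ := exists_le_sum_eq Finset.univ q (a - t) (by
      have : a ≤ (k + 1) * a := Nat.le_mul_of_pos_left _ (Nat.succ_pos k)
      omega)
    let e' : ι → ℕ := fun i => r i + q' i * L i
    let e'' : ι → ℕ := fun i => (q i - q' i) * L i
    have hsplit : e = e' + e'' := funext fun i => by
      show e i = r i + q' i * L i + (q i - q' i) * L i
      rw [add_assoc, ← add_mul, Nat.add_sub_cancel' (hq'le i)]
      have h1 := Nat.mod_add_div (e i) (L i)
      simp only [q, r]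
      rw [mul_comm (e i / L i)]; omega
    have he' : wt deg e' = a * l := by
      have : wt deg e' = wt deg r + (∑ i, q' i) * l := by
        rw [wt, wt, Finset.sum_mul, ← Finset.sum_add_distrib]
        refine Finset.sum_congr rfl fun i _ => ?_
        simp only [e']
        rw [hL i]; ring
      rw [this, hq'sum, ht, mul_comm l t, ← add_mul, Nat.add_sub_cancel' hta]
    have he'' : wt deg e'' = k * (a * l) := by
      have h1 := wt_add deg e' e''
      rw [← hsplit, he, he', add_one_mul] at h1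
      omega
    rw [hsplit, mon_add]
    exact mul_mem (Algebra.subset_adjoin ⟨e', he', rfl⟩) (ih e'' he'')

theorem exists_finset_adjoin {U : Set A} {z : A} (hz : z ∈ Algebra.adjoin R U) :
    ∃ t : Finset A, (t : Set A) ⊆ U ∧ z ∈ Algebra.adjoin R (t : Set A) := by
  classical
  induction hz using Algebra.adjoin_induction with
  | mem y hy => exact ⟨{y}, by simpa using hy, Algebra.subset_adjoin (by simp)⟩
  | algebraMap c => exact ⟨∅, by simp, Subalgebra.algebraMap_mem _ c⟩
  | add y y' _ _ h h' =>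
    obtain ⟨t, ht, hy⟩ := h
    obtain ⟨t', ht', hy'⟩ := h'
    exact ⟨t ∪ t', by simp [ht, ht'], add_mem (Algebra.adjoin_mono (by simp) hy) (Algebra.adjoin_mono (by simp) hy')⟩
  | mul y y' _ _ h h' =>
    obtain ⟨t, ht, hy⟩ := h
    obtain ⟨t', ht', hy'⟩ := h'
    exact ⟨t ∪ t', by simp [ht, ht'], mul_mem (Algebra.adjoin_mono (by simp) hy) (Algebra.adjoin_mono (by simp) hy')⟩

end Groth.Agent.Emb26
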